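import Groth.Agent.GrpQuot19.Coset
import Groth.Agent.GrpdLib.DenseQuot
import Groth.Agent.GrpdLib.FppfSourceDescent
import Groth.Agent.GrpScheme.IdComponent
import Mathlib.AlgebraicGeometry.Morphisms.Finite
import Mathlib.AlgebraicGeometry.Morphisms.QuasiFinite

/-!
# The quotient of a group scheme over a field by a closed subgroup
-/

set_option autoImplicit false
set_option linter.style.haveILetI false
set_option linter.unusedSectionVars false
set_option backward.isDefEq.respectTransparency false
set_option backward.isDefEq.respectTransparency.types false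

universe u

open CategoryTheory CategoryTheory.Limits AlgebraicGeometry MonoidalCategory CartesianMonoidalCategory
open MonObj GrpObj
open TopologicalSpace (Opens NoetherianSpace)
open Groth.Agent.GrpScheme (Points.pointObj Points.pointHom)
open Groth.Agent.GrpScheme.Component (IsMaxGen)
open Groth.Agent.GrpScheme

noncomputable section

namespace Groth.Agent.GrpQuot19.Field

variable {k : Type u} [Field k]

local notation "Sk" => Spec (CommRingCat.of k)

/-- A dense open contains the maximal points. -/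
lemma mem_of_dense_of_isMaxGen {X : Scheme.{u}} [IsLocallyNoetherian X] {O : Set X} (hO : IsOpen O)
    (hd : Dense O) {a : X} (ha : IsMaxGen a) : a ∈ O := by
  obtain ⟨_, ⟨U : X.Opens, hU, rfl⟩, haU, -⟩ :=
    X.isBasis_affineOpens.exists_subset_of_mem_open (Set.mem_univ a) isOpen_univ
  haveI : IsAffine (U : Scheme.{u}) := hU
  haveI : NoetherianSpace (U : Scheme.{u}) := by
    haveI : IsNoetherian (U : Scheme.{u}) := ⟨⟩
    infer_instance
  let a' : (U : Scheme.{u}) := (⟨a, haU⟩ : U)
  have hcomp : closure {a'} ∈ irreducibleComponents (U : Scheme.{u}) := Component.isMaxGen_iff.mp fun w hw => by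
    have := ha (U.ι w) ((hw.map U.ι.continuous).trans (specializes_of_eq rfl))
    exact U.ι.isOpenEmbedding.injective this
  obtain ⟨o, ho, hon, hoZ⟩ := NoetherianSpace.exists_isOpen_nonempty_subset_irreducibleComponent _ hcomp
  obtain ⟨y, ⟨y', hy', rfl⟩, hyO⟩ := hd.inter_open_nonempty (U.ι '' o) (U.ι.isOpenEmbedding.isOpenMap o ho)
    (hon.image _)
  exact ((specializes_iff_mem_closure.mpr (hoZ hy')).map U.ι.continuous).mem_open hO hyO

variable {G F : Over (Spec (CommRingCat.of k))} [GrpObj G] [GrpObj F] [LocallyOfFiniteType G.hom] [LocallyOfFiniteType F.hom]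
  (i : F ⟶ G) [IsMonHom i] [IsClosedImmersion i.left]

lemma flat_fst : Flat (fst G F).left := inferInstanceAs (Flat (pullback.fst G.hom F.hom))

lemma lfp_fst : LocallyOfFinitePresentation (fst G F).left :=
  inferInstanceAs (LocallyOfFinitePresentation (pullback.fst G.hom F.hom))

lemma surjective_fst : Surjective (fst G F).left := by
  haveI : Surjective F.hom := ⟨fun s => ⟨(η[F]).left s, congr($(Over.w η[F]) s)⟩⟩
  exact inferInstanceAs (Surjective (pullback.fst G.hom F.hom))

/-- Some chart contains the maximal points, with affine Noetherian quotient. -/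
lemma exists_affineChart_mem {a : G.left} (ha : IsMaxGen a) :
    ∃ c : Chart (fst G F) (Coset.relT i), a ∈ Set.range c.g.left ∧ IsAffine c.V.left ∧
      LocallyOfFiniteType c.V.hom := by
  haveI : Mono i := Over.mono_of_mono_left i
  haveI := flat_fst (G := G) (F := F); haveI := lfp_fst (G := G) (F := F); haveI := surjective_fst (G := G) (F := F)
  obtain ⟨W, g, V, p, hg, hdense, hinv, hpf, hps, hpl, hpker, -⟩ :=
    GrpdLib.DenseQuot.exists_dense_open_quotient (Coset.isEqvRel i) (Coset.quasiCompact_graph i)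
  let c₀ : Chart (fst G F) (Coset.relT i) :=
    { W := W, g := g, openImmersion := hg
      stable := fun a b ⟨r, h1, h2⟩ => by rw [← h1, ← h2]; exact hinv _ r
      V := V, p := p, flat := hpf, surj := hps, lfp := hpl, ker := fun a b => hpker _ a b }
  haveI := LocallyOfFiniteType.isLocallyNoetherian G.hom
  obtain ⟨w, hw⟩ := mem_of_dense_of_isMaxGen g.left.isOpenEmbedding.isOpen_range hdense ha
  haveI := hg; haveI := hpf; haveI := hps; haveI := hpl
  haveI : LocallyOfFiniteType W.hom := Over.w g ▸ inferInstanceAs (LocallyOfFiniteType (g.left ≫ G.hom))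
  haveI : LocallyOfFinitePresentation V.hom := by
    haveI : LocallyOfFinitePresentation (p.left ≫ V.hom) := by rw [Over.w]; infer_instance
    exact GrpdLib.FppfSourceDescent.locallyOfFinitePresentation_of_comp_fppf p.left _
  obtain ⟨_, ⟨V' : V.left.Opens, hV', rfl⟩, hwV, -⟩ :=
    V.left.isBasis_affineOpens.exists_subset_of_mem_open (Set.mem_univ (p.left w)) isOpen_univ
  let e : Over.mk (V'.ι ≫ V.hom) ⟶ c₀.V := Over.homMk V'.ι rfl
  haveI : IsOpenImmersion e.left := inferInstanceAs (IsOpenImmersion V'.ι)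
  obtain ⟨c, hcV, hcr⟩ := c₀.exists_restrict e
  refine ⟨c, ?_, ?_, ?_⟩
  · rw [hcr]
    exact ⟨w, ⟨⟨p.left w, hwV⟩, rfl⟩, hw⟩
  · rw [hcV]; exact hV'
  · rw [hcV]; exact inferInstanceAs (LocallyOfFiniteType (V'.ι ≫ V.hom))

omit [GrpObj F] [LocallyOfFiniteType F.hom] [IsMonHom i] [IsClosedImmersion i.left] [LocallyOfFiniteType G.hom] in
/-- A point as a morphism from an opaque source. -/
lemma exists_pointHom (X : Over Sk) (u : X.left) :
    ∃ (P : Over Sk) (_ : Nonempty P.left) (pu : P ⟶ X), ∀ t, pu.left t = u :=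
  ⟨_, inferInstance, Points.pointHom X u, Points.pointHom_apply X u⟩

omit [GrpObj F] [LocallyOfFiniteType F.hom] [IsMonHom i] [IsClosedImmersion i.left] [GrpObj G] in
/-- A closed point as a finite point. -/
lemma exists_finite_point (X : Over Sk) [LocallyOfFiniteType X.hom] {x : X.left} (hx : IsClosed {x}) :
    ∃ (T : Over Sk) (_ : Nonempty T.left) (_ : Subsingleton T.left) (_ : IsFinite T.hom) (_ : IsAffine T.left)
      (c : T ⟶ X), ∀ t, c.left t = x := by
  haveI := LocallyOfFiniteType.jacobsonSpace X.hom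
  haveI := isClosed_singleton_iff_isClosedImmersion.mp hx
  exact ⟨_, inferInstance, inferInstanceAs (Subsingleton (Spec (X.left.residueField x))),
    (isFinite_iff_locallyOfFiniteType_of_jacobsonSpace
      (f := X.left.fromSpecResidueField x ≫ X.hom)).mpr inferInstance,
    inferInstanceAs (IsAffine (Spec (X.left.residueField x))),
    Points.pointHom X x, Points.pointHom_apply X x⟩

omit [GrpObj F] [LocallyOfFiniteType F.hom] [IsMonHom i] [IsClosedImmersion i.left] [LocallyOfFiniteType G.hom] in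
/-- A translate by a closed point of an irreducible subscheme moves the fibre over `x` into `U`. -/
lemma exists_closed_translate {Z Tx : Over Sk} (ζ : Z ⟶ G) (cx : Tx ⟶ G) [IrreducibleSpace Z.left]
    [IrreducibleSpace (Z ⊗ Tx).left] [LocallyOfFiniteType Z.hom] [IsFinite Tx.hom] [Nonempty Tx.left]
    {U : G.left.Opens} {x : G.left} (hcx : ∀ t, cx.left t = x)
    (hx : ∃ q : (Z ⊗ G).left, (snd Z G).left q ∈ U ∧ ((ζ ▷ G) ≫ μ[G]).left q = x) :
    ∃ z : Z.left, IsClosed {z} ∧ ∀ q : (Z ⊗ Tx).left, (fst Z Tx).left q = z →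
      ((fst Z Tx ≫ ζ)⁻¹ * (snd Z Tx ≫ cx)).left q ∈ U := by
  let N : Z ⊗ Tx ⟶ G := (fst Z Tx ≫ ζ)⁻¹ * (snd Z Tx ≫ cx)
  -- some point of the product maps into `U`
  obtain ⟨q, hq, hqx⟩ := hx
  obtain ⟨P, _, pq, hpq⟩ := exists_pointHom (Z ⊗ G) q
  let M := (ζ ▷ G) ≫ μ[G]
  obtain ⟨T', ⟨t'⟩, π, h, e⟩ := Points.exists_lift cx (pq ≫ M)
    fun t => ⟨(inferInstance : Nonempty Tx.left).some, by
      rw [hcx, Points.comp_apply, hpq]; exact hqx.symm⟩
  let q' := (lift (π ≫ pq ≫ fst Z G) h).left t'
  have hq' : N.left q' ∈ U := by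
    have hh : lift (π ≫ pq ≫ fst Z G) h ≫ N = π ≫ pq ≫ snd Z G := by
      rw [MonObj.comp_mul, GrpObj.comp_inv, lift_fst_assoc, lift_snd_assoc, e,
        show M = (fst Z G ≫ ζ) * snd Z G by rw [Hom.mul_def]; congr 1]
      simp only [MonObj.comp_mul, Category.assoc, inv_mul_cancel_left]
    have := congr(($hh).left t')
    rw [Points.comp_apply, Points.comp_apply, Points.comp_apply, hpq] at this
    exact this ▸ hq
  -- finiteness of the projection
  haveI := LocallyOfFiniteType.jacobsonSpace Z.hom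
  haveI : IsFinite (fst Z Tx).left := inferInstanceAs (IsFinite (pullback.fst Z.hom Tx.hom))
  let C : Set (Z ⊗ Tx).left := (N.left ⁻¹' U)ᶜ
  have hC : IsClosed C := (U.2.preimage N.left.continuous).isClosed_compl
  have hne : ((fst Z Tx).left '' C)ᶜ.Nonempty := by
    rw [Set.nonempty_compl]
    intro huniv
    obtain ⟨q₁, hq₁, hq₁c⟩ : genericPoint Z.left ∈ (fst Z Tx).left '' C := huniv ▸ trivial
    have hη : genericPoint (Z ⊗ Tx).left ⤳ q₁ := genericPoint_specializes _
    have hd := Scheme.Hom.isDiscrete_preimage_singleton (fst Z Tx).left (genericPoint Z.left)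
    have hηc : (fst Z Tx).left (genericPoint (Z ⊗ Tx).left) = genericPoint Z.left :=
      ((hη.map (fst Z Tx).left.continuous).trans (specializes_of_eq hq₁c)).antisymm
        (genericPoint_specializes _) |>.eq
    have : genericPoint (Z ⊗ Tx).left = q₁ := hd.eq_of_specializes hη hηc hq₁c
    exact (this ▸ hq₁ : genericPoint (Z ⊗ Tx).left ∈ C)
      ((genericPoint_specializes q').mem_open (U.2.preimage N.left.continuous) hq')
  obtain ⟨z, hz, hzc⟩ := nonempty_inter_closedPoints hne
    ((Scheme.Hom.isClosedMap (fst Z Tx).left) C hC).isOpen_compl.isLocallyClosed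
  exact ⟨z, hzc, fun q hq => by_contra fun h => hz ⟨q, h, hq⟩⟩

omit [GrpObj F] [LocallyOfFiniteType F.hom] [IsMonHom i] [IsClosedImmersion i.left] [LocallyOfFiniteType G.hom] in
/-- From the fibre over a closed point to the fibre over `x`. -/
lemma twist_mem {Z Tx T : Over Sk} (ζ : Z ⟶ G) (cx : Tx ⟶ G) (d : T ⟶ Z) [Nonempty Tx.left]
    {U : G.left.Opens} {x : G.left} (hcx : ∀ t, cx.left t = x) {z : Z.left} (hd : ∀ t, d.left t = z)
    (hz : ∀ q : (Z ⊗ Tx).left, (fst Z Tx).left q = z →
      ((fst Z Tx ≫ ζ)⁻¹ * (snd Z Tx ≫ cx)).left q ∈ U)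
    (u : (G ⊗ T).left) (hux : (fst G T).left u = x) : (Coset.twist (d ≫ ζ)).left u ∈ U := by
  obtain ⟨P, _, pu, hpu⟩ := exists_pointHom (G ⊗ T) u
  obtain ⟨T', ⟨t'⟩, π, h, e⟩ := Points.exists_lift cx (pu ≫ fst G T) fun t =>
    ⟨(inferInstance : Nonempty Tx.left).some, by rw [hcx, Points.comp_apply, hpu, hux]⟩
  have := hz ((lift (π ≫ pu ≫ snd G T ≫ d) h).left t') (by
    rw [← Points.comp_apply, lift_fst, Points.comp_apply, Points.comp_apply, Points.comp_apply, hd])
  rw [← Points.comp_apply, MonObj.comp_mul, GrpObj.comp_inv, lift_fst_assoc, lift_snd_assoc, e] at this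
  simp only [Category.assoc] at this
  rw [← GrpObj.comp_inv, ← GrpObj.comp_inv, ← MonObj.comp_mul, ← MonObj.comp_mul,
    Points.comp_apply, Points.comp_apply, hpu] at this
  exact this

/-- A saturated neighbourhood from a translated chart with affine quotient. -/
lemma exists_chart_mem_of_twist {T : Over Sk} [IsFinite T.hom] [IsAffine T.left] [Nonempty T.left] (cz : T ⟶ G)
    (c : Chart (fst G F) (Coset.relT i)) [IsAffine c.V.left] [LocallyOfFiniteType c.V.hom] {x : G.left}
    (hz : ∀ u : (G ⊗ T).left, (fst G T).left u = x → (Coset.twist cz).left u ∈ Set.range c.g.left) :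
    ∃ c : Chart (fst G F) (Coset.relT i), x ∈ Set.range c.g.left := by
  haveI : Mono i := Over.mono_of_mono_left i
  haveI := flat_fst (G := G) (F := F); haveI := lfp_fst (G := G) (F := F)
  haveI := c.openImmersion
  haveI : Flat T.hom := inferInstance
  haveI : Surjective T.hom := ⟨Function.surjective_to_subsingleton (α := T.left) (β := Sk) _⟩
  haveI : LocallyOfFinitePresentation T.hom := inferInstance
  haveI := Coset.isIso_lift_twist cz
  obtain ⟨c1, hc1V, hc1r⟩ := c.exists_comap T (Coset.twist cz) (fun a b => Coset.rel_twist i cz a b)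
  haveI : IsAffine c1.V.left := by rw [hc1V]; exact inferInstanceAs (IsAffine (pullback c.V.hom T.hom))
  haveI : NoetherianSpace c1.V.left := by
    haveI : LocallyOfFiniteType c1.V.hom := by
      rw [hc1V]; exact inferInstanceAs (LocallyOfFiniteType (pullback.fst c.V.hom T.hom ≫ c.V.hom))
    haveI := LocallyOfFiniteType.isLocallyNoetherian c1.V.hom
    haveI : IsNoetherian c1.V.left := ⟨⟩
    infer_instance
  haveI := c1.openImmersion
  haveI : IsFinite (fst G T).left := inferInstanceAs (IsFinite (pullback.fst G.hom T.hom))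
  let O : G.left.Opens := ⟨((fst G T).left '' (Set.range c1.g.left)ᶜ)ᶜ, ((Scheme.Hom.isClosedMap (fst G T).left) _
    c1.g.left.isOpenEmbedding.isOpen_range.isClosed_compl).isOpen_compl⟩
  have hOc : (fst G T).left ⁻¹' (O : Set G.left) ⊆ Set.range c1.g.left := fun u hu => by_contra fun h => hu ⟨u, h, rfl⟩
  have hxO : x ∈ O := by
    rintro ⟨u, hu, hux⟩
    exact hu (hc1r ▸ hz u hux)
  have key : ∀ {T₀ : Over Sk} (a b : T₀ ⟶ G), Rel (fst G F) (Coset.relT i) a b →
      (∀ y, a.left y ∈ O) → ∀ y, b.left y ∈ O := by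
    intro T₀ a b hab hall y hy
    obtain ⟨u, hu, huy⟩ := hy
    obtain ⟨u', hu'1, hu'2⟩ := Scheme.exists_preimage_of_isPullback
      ((Basic.isPullback_whiskerRight (R := T) b).map (Over.forget _)) u y huy
    refine hu ?_
    have hrel : Rel (fst G F ▷ T) (Coset.relT i ▷ T) (a ▷ T) (b ▷ T) := by
      rw [rel_whiskerRight]
      obtain ⟨r, h1, h2⟩ := hab
      exact ⟨⟨fst T₀ T ≫ r, by simp [h1], by simp [h2]⟩, by simp⟩
    obtain ⟨w, hw⟩ := exists_lift_open c1.g (a ▷ T) fun v => hOc (by
      show (fst G T).left ((a ▷ T).left v) ∈ O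
      rw [← Points.comp_apply, whiskerRight_fst, Points.comp_apply]
      exact hall _)
    have hb := mem_range_of_exists_lift ((c1.stable _ _ hrel).1 ⟨w, hw⟩) u'
    exact hu'1 ▸ hb
  obtain ⟨c', hc'⟩ := exists_chart_of_baseChange (Coset.isEqvRel i) T c1 O
    (fun a b hab => ⟨key a b hab, key b a (((Coset.isEqvRel i).equivalence _).symm hab)⟩) hOc
  exact ⟨c', hc' ▸ hxO⟩

/-- Every closed point lies in a chart. -/
lemma exists_chart_mem {x : G.left} (hxc : IsClosed {x}) :
    ∃ c : Chart (fst G F) (Coset.relT i), x ∈ Set.range c.g.left := by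
  obtain ⟨a, ha, hax⟩ := Component.exists_isMaxGen x
  obtain ⟨c, hac, hV, hVft⟩ := exists_affineChart_mem i ha
  haveI := hV; haveI := hVft; haveI := c.openImmersion
  haveI : LocallyOfFiniteType (IdComponent.zObj G).hom :=
    Over.w (IdComponent.zι G) ▸ inferInstanceAs (LocallyOfFiniteType ((IdComponent.zι G).left ≫ G.hom))
  obtain ⟨Tx, _, _, _, _, cx, hcx⟩ := exists_finite_point G hxc
  haveI : IrreducibleSpace Tx.left := IdComponent.irreducibleSpace_of_subsingleton
  haveI := IdComponent.irreducibleSpace_tensor G Tx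
  obtain ⟨z, hzc, hz⟩ := exists_closed_translate (IdComponent.zι G) cx hcx
    (IdComponent.mem_saturation_of_specializes G
      (U := ⟨Set.range c.g.left, c.g.left.isOpenEmbedding.isOpen_range⟩) hac hax)
  obtain ⟨T, _, _, _, _, d, hd⟩ := exists_finite_point (IdComponent.zObj G) hzc
  exact exists_chart_mem_of_twist i (d ≫ IdComponent.zι G) c
    (twist_mem (IdComponent.zι G) cx d hcx hd hz)

/-- The quotient of a group scheme over a field by a closed subgroup. -/
theorem exists_quotient_of_closedSubgroup :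
    ∃ (X : Over Sk) (p : G ⟶ X), Flat p.left ∧ Surjective p.left ∧ LocallyOfFinitePresentation p.left ∧
      IsPullback ((G ◁ i) ≫ μ[G]) (fst G F) p p := by
  haveI : Mono i := Over.mono_of_mono_left i
  haveI := flat_fst (G := G) (F := F); haveI := lfp_fst (G := G) (F := F)
  refine exists_quotient (Coset.isEqvRel i) fun x => ?_
  by_contra hx
  haveI := LocallyOfFiniteType.jacobsonSpace G.hom
  let B : Set G.left := ⋃ c : Chart (fst G F) (Coset.relT i), Set.range c.g.left
  have hB : IsOpen B := isOpen_iUnion fun c =>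
    haveI := c.openImmersion
    c.g.left.isOpenEmbedding.isOpen_range
  obtain ⟨y, hy, hyc⟩ := nonempty_inter_closedPoints (Z := Bᶜ)
    ⟨x, fun h => hx (Set.mem_iUnion.1 h)⟩ hB.isClosed_compl.isLocallyClosed
  obtain ⟨c, hc⟩ := exists_chart_mem i hyc
  exact hy (Set.mem_iUnion.2 ⟨c, hc⟩)

end Groth.Agent.GrpQuot19.Field
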