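import Groth.Agent.GrpQuot19.Artinian
import Groth.Agent.FpqcCov27.MaxOpen

/-!
# Left and right quotients
-/

set_option autoImplicit false
set_option linter.style.haveILetI false
set_option backward.isDefEq.respectTransparency false
set_option backward.isDefEq.respectTransparency.types false
set_option synthInstance.maxHeartbeats 200000

universe u

open CategoryTheory CategoryTheory.Limits AlgebraicGeometry MonoidalCategory CartesianMonoidalCategory
open MonObj GrpObj

noncomputable section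

namespace Groth.Agent.GrpQuot19

variable {S : Scheme.{u}} {G F : Over S}

/-- A flat surjective lfp morphism covers for the fpqc topology. -/
lemma hcov {X : Over S} (p : G ⟶ X) [Flat p.left] [Surjective p.left] [LocallyOfFinitePresentation p.left] :
    ∃ (Z : Scheme.{u}) (q : Z ⟶ X.left) (r : Z ⟶ G.left), r ≫ p.left = q ∧ Surjective q ∧ Flat q ∧
      ∀ V : X.left.Opens, IsAffineOpen V → ∃ W : Z.Opens, IsCompact (W : Set Z) ∧ q.base '' (W : Set Z) = (V : Set X.left) :=
  ⟨G.left, p.left, 𝟙 _, Category.id_comp _, ‹Surjective p.left›, ‹Flat p.left›,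
    FpqcCov27.liftsAffines_of_isOpenMap p.left p.left.isOpenMap p.left.surjective⟩

variable [GrpObj G] [GrpObj F]

/-- Inversion as an automorphism of the underlying scheme. -/
def invIso (G : Over S) [GrpObj G] : G ≅ G where
  hom := (𝟙 G)⁻¹
  inv := (𝟙 G)⁻¹
  hom_inv_id := by rw [GrpObj.comp_inv, Category.comp_id, _root_.inv_inv]
  inv_hom_id := by rw [GrpObj.comp_inv, Category.comp_id, _root_.inv_inv]

/-- The quotient by right translations, composed with inversion, is the quotient by left translations. -/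
theorem isPullback_left (u : F ⟶ G) [IsMonHom u] {X : Over S} {p : G ⟶ X}
    (h : IsPullback ((G ◁ u) ≫ μ[G]) (fst G F) p p) :
    IsPullback ((u ▷ G) ≫ μ[G]) (snd F G) ((invIso G).hom ≫ p) ((invIso G).hom ≫ p) := by
  let e : G ⊗ F ≅ F ⊗ G :=
    { hom := lift (snd G F)⁻¹ (fst G F)⁻¹
      inv := lift (snd F G)⁻¹ (fst F G)⁻¹
      hom_inv_id := by
        refine CartesianMonoidalCategory.hom_ext _ _ ?_ ?_ <;>
          simp [GrpObj.comp_inv]
      inv_hom_id := by
        refine CartesianMonoidalCategory.hom_ext _ _ ?_ ?_ <;>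
          simp [GrpObj.comp_inv] }
  have hL : (u ▷ G) ≫ μ[G] = (fst F G ≫ u) * snd F G := by
    rw [Hom.mul_def]; congr 1
  have hR : (G ◁ u) ≫ μ[G] = fst G F * (snd G F ≫ u) := by
    rw [Hom.mul_def]
    refine congrArg (· ≫ μ[G]) (CartesianMonoidalCategory.hom_ext _ _ ?_ ?_) <;> simp
  refine IsPullback.of_iso h e (invIso G) (invIso G) (Iso.refl X) ?_ ?_ ?_ ?_
  · show ((G ◁ u) ≫ μ[G]) ≫ (𝟙 G)⁻¹ = lift (snd G F)⁻¹ (fst G F)⁻¹ ≫ (u ▷ G) ≫ μ[G]
    rw [hL, hR, GrpObj.comp_inv, Category.comp_id, MonObj.comp_mul, lift_fst_assoc, lift_snd,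
      GrpObj.inv_comp, _root_.mul_inv_rev]
  · show fst G F ≫ (𝟙 G)⁻¹ = lift (snd G F)⁻¹ (fst G F)⁻¹ ≫ snd F G
    rw [GrpObj.comp_inv, Category.comp_id, lift_snd]
  · show p ≫ 𝟙 X = (invIso G).hom ≫ (invIso G).hom ≫ p
    rw [Category.comp_id, ← Category.assoc]
    show p = ((invIso G).hom ≫ (invIso G).inv) ≫ p
    rw [Iso.hom_inv_id, Category.id_comp]
  · show p ≫ 𝟙 X = (invIso G).hom ≫ (invIso G).hom ≫ p
    rw [Category.comp_id, ← Category.assoc]
    show p = ((invIso G).hom ≫ (invIso G).inv) ≫ p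
    rw [Iso.hom_inv_id, Category.id_comp]

end Groth.Agent.GrpQuot19
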