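import Groth.Agent.GrpQuot19.Field
import Groth.Agent.GrpArtin.Descend
import Groth.Agent.AlgSpB.IdealApprox.ThickScheme

/-!
# The quotient of a group scheme over an Artinian local ring by a flat closed subgroup
-/

set_option autoImplicit false
set_option linter.style.haveILetI false
set_option synthInstance.maxHeartbeats 200000
set_option backward.isDefEq.respectTransparency false
set_option backward.isDefEq.respectTransparency.types false

universe u

open CategoryTheory CategoryTheory.Limits AlgebraicGeometry MonoidalCategory CartesianMonoidalCategory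
open MonObj GrpObj

noncomputable section

namespace Groth.Agent.GrpQuot19

open _root_.AlgSp (yon RepWith IsEqvRel Space IsAlgSpace repWith_yon_map_iff)
open Groth.Agent.AlgSp (yπ isPullback_yπ isLocallySurjective_yπ isColimit_of_isPullback
  isLocallySurjective_of_fppf_lift hom_ext_yon)

variable {S : Scheme.{u}} {R U : Over S} {s t : R ⟶ U}

/-- A scheme quotient with the same kernel pair as a covering of a sheaf represents that sheaf. -/
theorem exists_iso_of_kernel {W V : Over S} {P : _root_.AlgSp.Sp S} (qP : (yon S).obj W ⟶ P)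
    [Sheaf.IsLocallySurjective qP] (q : W ⟶ V) [Flat q.left] [Surjective q.left]
    [LocallyOfFinitePresentation q.left]
    (h : ∀ {T₀ : Over S} (x y : T₀ ⟶ W), (yon S).map x ≫ qP = (yon S).map y ≫ qP ↔ x ≫ q = y ≫ q) :
    ∃ j : (yon S).obj V ≅ P, (yon S).map q ≫ j.hom = qP := by
  haveI : Sheaf.IsLocallySurjective ((yon S).map q) :=
    Groth.Agent.AlgSp.isLocallySurjective_of_repWith _ ((repWith_yon_map_iff _ _).2 ‹Flat q.left›)
      ((repWith_yon_map_iff _ _).2 ‹LocallyOfFinitePresentation q.left›) ((repWith_yon_map_iff _ _).2 ‹Surjective q.left›)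
  obtain ⟨hcol2⟩ := isColimit_of_isPullback _ ((IsPullback.of_hasPullback q q).map (yon S))
  obtain ⟨hcolP⟩ := isColimit_of_isPullback qP (IsPullback.of_hasPullback qP qP)
  obtain ⟨j, hj⟩ : ∃ j, (yon S).map q ≫ j = qP :=
    ⟨_, (Cofork.IsColimit.desc' hcol2 qP ((h _ _).2 pullback.condition)).2⟩
  obtain ⟨j', hj'⟩ : ∃ j', qP ≫ j' = (yon S).map q :=
    ⟨_, (Cofork.IsColimit.desc' hcolP ((yon S).map q) (hom_ext_yon fun T₀ z => by
      obtain ⟨x, hx⟩ := (yon S).map_surjective (z ≫ pullback.fst qP qP)
      obtain ⟨y, hy⟩ := (yon S).map_surjective (z ≫ pullback.snd qP qP)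
      have h := (h x y).1 (by
        rw [hx, hy]
        exact (Category.assoc _ _ _).trans ((congrArg (z ≫ ·) pullback.condition).trans (Category.assoc _ _ _).symm))
      refine (Category.assoc _ _ _).symm.trans (Eq.trans ?_ (Category.assoc _ _ _))
      refine (congrArg (· ≫ (yon S).map q) hx.symm).trans (Eq.trans ?_ (congrArg (· ≫ (yon S).map q) hy))
      exact ((yon S).map_comp x q).symm.trans ((congrArg (yon S).map h).trans ((yon S).map_comp y q)))).2⟩
  haveI : Epi ((yon S).map q) := (Sheaf.isLocallySurjective_iff_epi _).1 inferInstance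
  haveI : Epi qP := (Sheaf.isLocallySurjective_iff_epi _).1 inferInstance
  exact ⟨⟨j, j', by rw [← cancel_epi ((yon S).map q), ← Category.assoc, hj, hj', Category.comp_id],
    by rw [← cancel_epi qP, ← Category.assoc, hj', hj, Category.comp_id]⟩, hj⟩

/-- A quotient scheme exists as soon as it exists over a surjective closed subscheme of the base. -/
theorem exists_quotient_of_thickening (heq : IsEqvRel s t) [Flat s.left] [LocallyOfFinitePresentation s.left]
    (T : Over S) [IsClosedImmersion T.hom] [Surjective T.hom] {V : Over S} (q : U ⊗ T ⟶ V) [Flat q.left]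
    [Surjective q.left] [LocallyOfFinitePresentation q.left]
    (hq : ∀ {T₀ : Over S} (x y : T₀ ⟶ U ⊗ T),
      x ≫ q = y ≫ q ↔ Rel s t (x ≫ fst U T) (y ≫ fst U T)) :
    ∃ (X : Over S) (p : U ⟶ X), Flat p.left ∧ Surjective p.left ∧ LocallyOfFinitePresentation p.left ∧
      IsPullback t s p p := by
  obtain ⟨hd, hp, hsu⟩ := Groth.Agent.AlgSpB.Art.cover_yπ heq
  have sq := isPullback_yπ s t heq
  haveI := isLocallySurjective_yπ s t
  let π := yπ s t
  let X' : _root_.AlgSp.Space S := ⟨QuotSh.quot Scheme.fppfPrecoverage s t,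
    Groth.Agent.AlgSpB.Art.isAlgSpace_of_fppf_cover hd _ hp hsu⟩
  obtain ⟨hcol⟩ := isColimit_of_isPullback π sq
  obtain ⟨a, ha⟩ : ∃ a, π ≫ a = (yon S).map (toUnit U) :=
    ⟨_, (Cofork.IsColimit.desc' hcol ((yon S).map (toUnit U)) (by
      rw [← Functor.map_comp, ← Functor.map_comp, toUnit_unique (t ≫ toUnit U) (s ≫ toUnit U)])).2⟩
  haveI : Mono (toUnit T).left := inferInstanceAs (Mono T.hom)
  haveI : Mono (toUnit T) := Over.mono_of_mono_left (toUnit T)
  have hw : ((yon S).map (fst U T) ≫ π) ≫ a = (yon S).map (snd U T) ≫ (yon S).map (toUnit T) := by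
    rw [Category.assoc, ha, ← Functor.map_comp, ← Functor.map_comp,
      toUnit_unique (fst U T ≫ toUnit U) (snd U T ≫ toUnit T)]
  let qP : (yon S).obj (U ⊗ T) ⟶ pullback a ((yon S).map (toUnit T)) :=
    pullback.lift ((yon S).map (fst U T) ≫ π) ((yon S).map (snd U T)) hw
  haveI : Sheaf.IsLocallySurjective qP := isLocallySurjective_of_fppf_lift qP fun T₀ x₀ => by
    have hfl := Groth.Agent.AlgSp.repWith_mono (P := @Flat ⊓ @LocallyOfFinitePresentation) (Q := @Flat) (fun _ h => h.1) hp
    have hlf := Groth.Agent.AlgSp.repWith_mono (P := @Flat ⊓ @LocallyOfFinitePresentation) (Q := @LocallyOfFinitePresentation) (fun _ h => h.2) hp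
    let x := x₀ ≫ pullback.fst _ _
    obtain ⟨l, hl⟩ := (yon S).map_surjective (hfl.1.fst x)
    obtain ⟨y, hy⟩ := (yon S).map_surjective (x₀ ≫ pullback.snd _ _)
    refine ⟨hfl.1.pullback x, hfl.1.snd x, (yon S).map (lift l (hfl.1.snd x ≫ y)),
      hfl.2 _ _ _ (hfl.1.isPullback x), hsu.2 _ _ _ (hfl.1.isPullback x),
      hlf.2 _ _ _ (hfl.1.isPullback x), ?_⟩
    refine pullback.hom_ext ?_ ?_
    · rw [Category.assoc, Category.assoc, pullback.lift_fst, ← Functor.map_comp_assoc, lift_fst, hl,
        hfl.1.w]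
    · rw [Category.assoc, Category.assoc, pullback.lift_snd, ← Functor.map_comp, lift_snd, Functor.map_comp, hy]
  obtain ⟨e, -⟩ := exists_iso_of_kernel qP q (fun {T₀} x y => by
    rw [hq]
    constructor
    · intro h
      have h1 := h =≫ pullback.fst _ _
      simp only [qP, Category.assoc, pullback.lift_fst] at h1
      rw [← Functor.map_comp_assoc, ← Functor.map_comp_assoc] at h1
      obtain ⟨r, e1, e2⟩ := sq.exists_lift _ _ h1
      obtain ⟨r, rfl⟩ := (yon S).map_surjective r
      rw [← Functor.map_comp] at e1 e2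
      exact ⟨r, (yon S).map_injective e1, (yon S).map_injective e2⟩
    · rintro ⟨r, e1, e2⟩
      refine pullback.hom_ext ?_ ?_
      · simp only [qP, Category.assoc, pullback.lift_fst]
        rw [← Functor.map_comp_assoc, ← Functor.map_comp_assoc, ← e1, ← e2, Functor.map_comp,
          Functor.map_comp, Category.assoc, Category.assoc, sq.w]
      · simp only [qP, Category.assoc, pullback.lift_snd]
        rw [← Functor.map_comp, ← Functor.map_comp,
          (cancel_mono (toUnit T)).1 (toUnit_unique ((x ≫ snd U T) ≫ toUnit T) ((y ≫ snd U T) ≫ toUnit T))])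
  let X₀ : _root_.AlgSp.Space S := ⟨(yon S).obj V, IsAlgSpace.yon_obj V⟩
  let i : X₀ ⟶ X' := ObjectProperty.homMk (e.hom ≫ pullback.fst a ((yon S).map (toUnit T)))
  have hT : RepWith (@IsClosedImmersion ⊓ @Surjective) ((yon S).map (toUnit T)) :=
    (repWith_yon_map_iff _ _).2 ⟨‹IsClosedImmersion T.hom›, ‹Surjective T.hom›⟩
  have hi : RepWith (@IsClosedImmersion ⊓ @Surjective) i.hom := (MorphismProperty.cancel_left_of_respectsIso _ _ _).2
    (MorphismProperty.of_isPullback (P := RepWith (@IsClosedImmersion ⊓ @Surjective))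
      (IsPullback.of_hasPullback a ((yon S).map (toUnit T))).flip hT)
  obtain ⟨X, ⟨eX⟩⟩ := Groth.Agent.AlgSpB.IdealApprox.exists_iso_yon_of_thick i hi (T := V) (Iso.refl _)
  let eX' : (yon S).obj X ≅ QuotSh.quot Scheme.fppfPrecoverage s t := eX
  obtain ⟨p, hpe⟩ := (yon S).map_surjective (π ≫ eX'.inv)
  refine ⟨X, p, ?_, ?_, ?_, ?_⟩
  · refine (repWith_yon_map_iff @Flat p).1 ?_
    rw [hpe]
    exact (MorphismProperty.cancel_right_of_respectsIso (RepWith @Flat) _ _).2
      (Groth.Agent.AlgSp.repWith_mono (fun _ h => h.1) hp)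
  · refine (repWith_yon_map_iff @Surjective p).1 ?_
    rw [hpe]
    exact (MorphismProperty.cancel_right_of_respectsIso (RepWith @Surjective) _ _).2 hsu
  · refine (repWith_yon_map_iff @LocallyOfFinitePresentation p).1 ?_
    rw [hpe]
    exact (MorphismProperty.cancel_right_of_respectsIso (RepWith @LocallyOfFinitePresentation) _ _).2
      (Groth.Agent.AlgSp.repWith_mono (fun _ h => h.2) hp)
  · refine IsPullback.of_map_of_faithful (yon S) ?_
    rw [hpe]
    exact IsPullback.of_iso sq (Iso.refl _) (Iso.refl _) (Iso.refl _) eX'.symm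
      (by simp) (by simp) (by simp [π]) (by simp [π])

/-- Related points and the quotient square. -/
lemma comp_eq_iff_rel {X : Over S} {p : U ⟶ X} (h : IsPullback t s p p) {T : Over S} (a b : T ⟶ U) :
    a ≫ p = b ≫ p ↔ Rel s t a b :=
  ⟨fun e => ⟨h.lift a b e, h.lift_fst _ _ _, h.lift_snd _ _ _⟩,
    fun ⟨r, h1, h2⟩ => by rw [← h1, ← h2, Category.assoc, Category.assoc, h.w]⟩

namespace Artinian

open GrpArtin (bc proj push down down_left down_mul unit_comp_map res surjective_res)

section Transfer

variable {S' : Scheme.{u}} (f : S' ⟶ S)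

lemma down_injective {T : Over S'} {G : Over S} {a b : T ⟶ bc f G} (h : down f a = down f b) : a = b := by
  rw [← unit_comp_map f a, h, unit_comp_map]

lemma exists_down {T : Over S'} {G : Over S} (w : push f T ⟶ G) : ∃ a : T ⟶ bc f G, down f a = w :=
  ⟨Over.homMk (pullback.lift w.left T.hom (Over.w w)) (pullback.lift_snd _ _ _),
    Over.OverMorphism.ext (pullback.lift_fst _ _ _)⟩

lemma down_comp_bcMap {T : Over S'} {G H : Over S} (a : T ⟶ bc f H) (i : H ⟶ G) :
    down f (a ≫ GrpArtin.Descend.bcMap f i) = down f a ≫ i := by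
  refine Over.OverMorphism.ext ?_
  rw [down_left, Over.comp_left, Over.comp_left, down_left, Category.assoc, Category.assoc,
    (GrpArtin.Descend.isPullback_bcMap f i).w]

lemma down_inv {T : Over S'} {G : Over S} [GrpObj G] (a : T ⟶ bc f G) : down f a⁻¹ = (down f a)⁻¹ :=
  eq_inv_of_mul_eq_one_left (by
    rw [← down_mul, inv_mul_cancel]
    have h := down_mul f (1 : T ⟶ bc f G) 1
    rw [_root_.one_mul] at h
    exact left_eq_mul.mp h)

variable {G F : Over S} [GrpObj G] (i : F ⟶ G)

lemma rel_down {T : Over S'} (a b : T ⟶ bc f G) :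
    Rel (fst (bc f G) (bc f F)) (Coset.relT (GrpArtin.Descend.bcMap f i)) a b ↔
      Rel (fst G F) (Coset.relT i) (down f a) (down f b) := by
  rw [Coset.rel_iff, Coset.rel_iff, ← down_inv, ← down_mul]
  constructor
  · rintro ⟨z, hz⟩
    exact ⟨down f z, by rw [← down_comp_bcMap, hz]⟩
  · rintro ⟨w, hw⟩
    obtain ⟨z, rfl⟩ := exists_down f w
    exact ⟨z, down_injective f (by rw [down_comp_bcMap, hw])⟩

lemma rel_precomp {T T' : Over S} (e : T' ⟶ T) [IsIso e] (a b : T ⟶ G) :
    Rel (fst G F) (Coset.relT i) (e ≫ a) (e ≫ b) ↔ Rel (fst G F) (Coset.relT i) a b :=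
  ⟨fun ⟨r, h1, h2⟩ => ⟨inv e ≫ r, by simp [h1], by simp [h2]⟩,
    fun ⟨r, h1, h2⟩ => ⟨e ≫ r, by simp [h1], by simp [h2]⟩⟩

end Transfer

variable {A : Type u} [CommRing A] [IsArtinianRing A] [IsLocalRing A]
  {G F : Over (Spec (CommRingCat.of A))} [GrpObj G] [GrpObj F] [LocallyOfFiniteType G.hom]
  [LocallyOfFiniteType F.hom] [Flat F.hom] (i : F ⟶ G) [IsMonHom i] [IsClosedImmersion i.left]

/-- The quotient of a group scheme over an Artinian local ring by a flat closed subgroup. -/
theorem exists_quotient_of_closedSubgroup :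
    ∃ (X : Over (Spec (CommRingCat.of A))) (p : G ⟶ X),
      Flat p.left ∧ Surjective p.left ∧ LocallyOfFinitePresentation p.left ∧
      IsPullback ((G ◁ i) ≫ μ[G]) (fst G F) p p := by
  haveI : Mono i := Over.mono_of_mono_left i
  let f := res A
  let i₀ := GrpArtin.Descend.bcMap f i
  haveI : IsMonHom i₀ := inferInstance
  haveI : IsClosedImmersion i₀.left :=
    MorphismProperty.of_isPullback (GrpArtin.Descend.isPullback_bcMap f i).flip ‹_›
  haveI : LocallyOfFiniteType (bc f G).hom := inferInstanceAs (LocallyOfFiniteType (pullback.snd G.hom f))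
  haveI : LocallyOfFiniteType (bc f F).hom := inferInstanceAs (LocallyOfFiniteType (pullback.snd F.hom f))
  obtain ⟨X₀, p₀, hf, hs, hl, hsq⟩ := Field.exists_quotient_of_closedSubgroup i₀
  let T : Over (Spec (CommRingCat.of A)) := Over.mk f
  haveI : IsClosedImmersion T.hom := inferInstanceAs (IsClosedImmersion (res A))
  haveI : Surjective T.hom := surjective_res
  haveI : Flat (fst G F).left := inferInstanceAs (Flat (pullback.fst G.hom F.hom))
  haveI : LocallyOfFinitePresentation (fst G F).left :=
    inferInstanceAs (LocallyOfFinitePresentation (pullback.fst G.hom F.hom))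
  let e : G ⊗ T ⟶ (Over.map f).obj (bc f G) := Over.homMk (𝟙 (pullback G.hom f)) (by
    show 𝟙 _ ≫ pullback.snd G.hom f ≫ f = pullback.fst G.hom f ≫ G.hom
    rw [Category.id_comp, pullback.condition])
  let q : G ⊗ T ⟶ (Over.map f).obj X₀ := e ≫ (Over.map f).map p₀
  have hql : q.left = p₀.left := Category.id_comp _
  haveI : Flat q.left := by rw [hql]; exact hf
  haveI : Surjective q.left := by rw [hql]; exact hs
  haveI : LocallyOfFinitePresentation q.left := by rw [hql]; exact hl
  refine exists_quotient_of_thickening (Coset.isEqvRel i) T q fun {T₀} x y => ?_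
  have hxy : (x ≫ snd G T).left = (y ≫ snd G T).left := by
    rw [← cancel_mono f]
    exact (Over.w (x ≫ snd G T)).trans (Over.w (y ≫ snd G T)).symm
  let T₀' : Over (Spec (CommRingCat.of (IsLocalRing.ResidueField A))) := Over.mk (x ≫ snd G T).left
  let x' : T₀' ⟶ bc f G := Over.homMk x.left rfl
  let y' : T₀' ⟶ bc f G := Over.homMk y.left hxy.symm
  let eT : T₀ ⟶ push f T₀' := Over.homMk (𝟙 _) ((Category.id_comp _).trans (Over.w (x ≫ snd G T)))
  haveI : IsIso ((Over.forget _).map eT) := inferInstanceAs (IsIso (𝟙 T₀.left))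
  haveI : IsIso eT := isIso_of_reflects_iso _ (Over.forget _)
  have hx : eT ≫ down f x' = x ≫ fst G T := Over.OverMorphism.ext (Category.id_comp _)
  have hy : eT ≫ down f y' = y ≫ fst G T := Over.OverMorphism.ext (Category.id_comp _)
  rw [← hx, ← hy, rel_precomp, ← rel_down, ← comp_eq_iff_rel hsq]
  constructor
  · intro h
    exact Over.OverMorphism.ext ((congrArg (x.left ≫ ·) hql).symm.trans
      (congr(($h).left).trans (congrArg (y.left ≫ ·) hql)))
  · intro h
    exact Over.OverMorphism.ext ((congrArg (x.left ≫ ·) hql).trans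
      (congr(($h).left).trans (congrArg (y.left ≫ ·) hql).symm))

end Artinian

end Groth.Agent.GrpQuot19
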