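import Groth.Agent.AlgSpB.Art.Wrap
import Groth.Agent.AlgSpB.OpenGlue
import Groth.Agent.AlgSpB.Points
import Groth.Agent.AlgSp.QuotRestrict
import Groth.Agent.AlgSp.DescentRep
import Groth.Agent.AlgSp.DescentQAffine
import Mathlib.CategoryTheory.Monoidal.Cartesian.Over

/-!
# Quotients of equivalence relations from saturated charts
-/

set_option autoImplicit false
set_option linter.style.haveILetI false
set_option backward.isDefEq.respectTransparency false
set_option backward.isDefEq.respectTransparency.types false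

universe u

open CategoryTheory CategoryTheory.Limits AlgebraicGeometry MonoidalCategory CartesianMonoidalCategory
open TopologicalSpace (Opens NoetherianSpace)

namespace Groth.Agent.GrpQuot19

open _root_.AlgSp (yon RepWith IsEqvRel Space IsAlgSpace Points repWith_yon_map_iff)
open Groth.Agent.AlgSp (yπ isPullback_yπ isLocallySurjective_yπ isColimit_of_isPullback
  isLocallySurjective_of_fppf_lift)

variable {S : Scheme.{u}} {R U : Over S}

/-- Related pairs of points. -/
def Rel (s t : R ⟶ U) {T : Over S} (a b : T ⟶ U) : Prop := ∃ r : T ⟶ R, r ≫ t = a ∧ r ≫ s = b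

/-- A saturated open subscheme with a quotient scheme. -/
structure Chart (s t : R ⟶ U) where
  W : Over S
  g : W ⟶ U
  openImmersion : IsOpenImmersion g.left
  stable : ∀ {T : Over S} (a b : T ⟶ U), Rel s t a b → ((∃ x, x ≫ g = a) ↔ ∃ y, y ≫ g = b)
  V : Over S
  p : W ⟶ V
  flat : Flat p.left
  surj : Surjective p.left
  lfp : LocallyOfFinitePresentation p.left
  ker : ∀ {T : Over S} (a b : T ⟶ W), a ≫ p = b ≫ p ↔ Rel s t (a ≫ g) (b ≫ g)

/-- A lift through an open immersion in `Over S`. -/
lemma exists_lift_open {W X T : Over S} (g : W ⟶ X) [IsOpenImmersion g.left] (a : T ⟶ X)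
    (h : ∀ z, a.left z ∈ Set.range g.left) : ∃ x, x ≫ g = a :=
  ⟨Over.homMk (IsOpenImmersion.lift g.left a.left (Set.range_subset_iff.2 h))
    (by rw [← Over.w g, IsOpenImmersion.lift_fac_assoc, Over.w]),
    Over.OverMorphism.ext (IsOpenImmersion.lift_fac _ _ _)⟩

lemma mem_range_of_exists_lift {W X T : Over S} {g : W ⟶ X} {a : T ⟶ X} (h : ∃ x, x ≫ g = a) (z : T.left) :
    a.left z ∈ Set.range g.left := by
  obtain ⟨x, rfl⟩ := h
  exact ⟨x.left z, (Scheme.Hom.comp_apply _ _ _).symm⟩

variable {s t : R ⟶ U}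

lemma Chart.mono_g (c : Chart s t) : Mono c.g :=
  have := c.openImmersion
  Over.mono_of_mono_left c.g

/-- The chart gives an open subspace of the quotient sheaf. -/
theorem Chart.exists_openImmersion (heq : IsEqvRel s t) [Flat s.left] [LocallyOfFinitePresentation s.left]
    (c : Chart s t) :
    ∃ j : (yon S).obj c.V ⟶ QuotSh.quot Scheme.fppfPrecoverage s t,
      RepWith @IsOpenImmersion j ∧ (yon S).map c.p ≫ j = (yon S).map c.g ≫ yπ s t := by
  have sqR := isPullback_yπ s t heq
  haveI := isLocallySurjective_yπ s t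
  haveI := c.flat; haveI := c.surj; haveI := c.lfp; haveI := c.openImmersion
  haveI : Mono c.g := c.mono_g
  haveI : Sheaf.IsLocallySurjective ((yon S).map c.p) :=
    Groth.Agent.AlgSp.isLocallySurjective_of_repWith _ ((repWith_yon_map_iff _ _).2 c.flat)
      ((repWith_yon_map_iff _ _).2 c.lfp) ((repWith_yon_map_iff _ _).2 c.surj)
  have sqP : IsPullback ((yon S).map (pullback.fst c.p c.p)) ((yon S).map (pullback.snd c.p c.p))
      ((yon S).map c.p) ((yon S).map c.p) := (IsPullback.of_hasPullback c.p c.p).map (yon S)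
  obtain ⟨hcol⟩ := isColimit_of_isPullback _ sqP
  obtain ⟨r, hr1, hr2⟩ := (c.ker (pullback.fst c.p c.p) (pullback.snd c.p c.p)).1 pullback.condition
  obtain ⟨j, hj⟩ : ∃ j, (yon S).map c.p ≫ j = (yon S).map c.g ≫ yπ s t :=
    ⟨_, (Cofork.IsColimit.desc' hcol ((yon S).map c.g ≫ yπ s t) (by
      rw [← Functor.map_comp_assoc, ← Functor.map_comp_assoc, ← hr1, ← hr2, Functor.map_comp,
        Functor.map_comp, Category.assoc, Category.assoc, sqR.w])).2⟩
  let cm : (yon S).obj c.W ⟶ pullback j (yπ s t) := pullback.lift ((yon S).map c.p) ((yon S).map c.g) hj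
  haveI : Mono cm := mono_of_mono_fac (pullback.lift_snd ((yon S).map c.p) ((yon S).map c.g) hj)
  haveI : Sheaf.IsLocallySurjective cm := isLocallySurjective_of_fppf_lift cm fun T x₀ => by
    obtain ⟨x', hx'⟩ := (yon S).map_surjective (x₀ ≫ pullback.fst _ _)
    obtain ⟨y', hy'⟩ := (yon S).map_surjective (x₀ ≫ pullback.snd _ _)
    have hsq := (IsPullback.of_hasPullback x' c.p).map (Over.forget S)
    let k := pullback.fst x' c.p
    let w := pullback.snd x' c.p
    have e : (yon S).map (w ≫ c.g) ≫ yπ s t = (yon S).map (k ≫ y') ≫ yπ s t := by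
      rw [Functor.map_comp, Category.assoc, ← hj, ← Functor.map_comp_assoc, ← pullback.condition,
        Functor.map_comp, Category.assoc, hx', Functor.map_comp, Category.assoc, hy']
      simp only [Category.assoc, pullback.condition, k]
    obtain ⟨r, h1, h2⟩ := sqR.exists_lift _ _ e
    obtain ⟨r, rfl⟩ := (yon S).map_surjective r
    rw [← Functor.map_comp] at h1 h2
    have hrel : Rel s t (w ≫ c.g) (k ≫ y') := ⟨r, (yon S).map_injective h1, (yon S).map_injective h2⟩
    obtain ⟨b, hb⟩ := (c.stable _ _ hrel).1 ⟨w, rfl⟩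
    refine ⟨_, k, (yon S).map b, MorphismProperty.of_isPullback hsq.flip c.flat,
      MorphismProperty.of_isPullback hsq.flip c.surj, MorphismProperty.of_isPullback hsq.flip c.lfp, ?_⟩
    refine pullback.hom_ext ?_ ?_
    · rw [Category.assoc, Category.assoc, pullback.lift_fst, ← hx', ← Functor.map_comp, ← Functor.map_comp,
        ← (c.ker w b).2 (by rw [hb]; exact hrel), ← pullback.condition]
    · rw [Category.assoc, Category.assoc, pullback.lift_snd, ← hy', ← Functor.map_comp, ← Functor.map_comp, hb]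
  haveI : Epi cm := (Sheaf.isLocallySurjective_iff_epi _).1 inferInstance
  haveI : IsIso cm := isIso_of_mono_of_epi _
  have sq : IsPullback ((yon S).map c.p) ((yon S).map c.g) j (yπ s t) :=
    IsPullback.of_iso_pullback ⟨hj⟩ (asIso cm) (pullback.lift_fst _ _ _) (pullback.lift_snd _ _ _)
  exact ⟨j, Groth.Agent.AlgSp.repWith_isOpenImmersion_of_baseChange j (yπ s t) sq
    ((repWith_yon_map_iff _ _).2 c.openImmersion), hj⟩

/-- If charts cover, the equivalence relation has a quotient scheme. -/
theorem exists_quotient (heq : IsEqvRel s t) [Flat s.left] [LocallyOfFinitePresentation s.left]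
    (hcov : ∀ u : U.left, ∃ c : Chart s t, u ∈ Set.range c.g.left) :
    ∃ (X : Over S) (p : U ⟶ X), Flat p.left ∧ Surjective p.left ∧ LocallyOfFinitePresentation p.left ∧
      IsPullback t s p p := by
  obtain ⟨hd, hp, hsu⟩ := Groth.Agent.AlgSpB.Art.cover_yπ heq
  have hF := Groth.Agent.AlgSpB.Art.isAlgSpace_of_fppf_cover hd _ hp hsu
  choose c hc using hcov
  choose j hjo hj using fun u => (c u).exists_openImmersion heq
  obtain ⟨X, ⟨e⟩⟩ := Groth.Agent.AlgSpB.exists_iso_yon_of_openCover hF (fun u => (c u).V) j hjo fun x => by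
    obtain ⟨u, rfl⟩ := Groth.Agent.AlgSpB.surjective_ofPt hsu x
    obtain ⟨w, hw⟩ := hc u
    refine ⟨u, Points.ofPt ((yon S).map (c u).p) w, ?_⟩
    rw [Points.map_ofPt, hj, Groth.Agent.AlgSpB.ofPt_map_comp, hw]
  obtain ⟨p, hpe⟩ := (yon S).map_surjective (yπ s t ≫ e.inv)
  refine ⟨X, p, ?_, ?_, ?_, ?_⟩
  · refine (repWith_yon_map_iff @Flat p).1 ?_
    rw [hpe]
    exact (MorphismProperty.cancel_right_of_respectsIso (RepWith @Flat) _ _).2
      (Groth.Agent.AlgSp.repWith_mono (fun _ h => h.1) hp)
  · refine (repWith_yon_map_iff @Surjective p).1 ?_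
    rw [hpe]
    exact (MorphismProperty.cancel_right_of_respectsIso (RepWith @Surjective) _ _).2 hsu
  · refine (repWith_yon_map_iff @LocallyOfFinitePresentation p).1 ?_
    rw [hpe]
    exact (MorphismProperty.cancel_right_of_respectsIso (RepWith @LocallyOfFinitePresentation) _ _).2
      (Groth.Agent.AlgSp.repWith_mono (fun _ h => h.2) hp)
  · refine IsPullback.of_map_of_faithful (yon S) ?_
    rw [hpe]
    exact IsPullback.of_iso (isPullback_yπ s t heq) (Iso.refl _) (Iso.refl _) (Iso.refl _) e.symm
      (by simp) (by simp) (by simp) (by simp)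

/-- Restriction of a chart to an open subscheme of its quotient. -/
theorem Chart.exists_restrict (c : Chart s t) {V' : Over S} (i : V' ⟶ c.V) [IsOpenImmersion i.left] :
    ∃ c' : Chart s t, c'.V = V' ∧ Set.range c'.g.left = c.g.left '' (c.p.left ⁻¹' Set.range i.left) := by
  haveI := c.openImmersion
  haveI : Mono c.g := c.mono_g
  haveI : Mono i := Over.mono_of_mono_left i
  have hsq := (IsPullback.of_hasPullback c.p i).map (Over.forget S)
  have hi' : IsOpenImmersion (pullback.fst c.p i).left := MorphismProperty.of_isPullback hsq.flip ‹_›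
  haveI := hi'
  haveI : Mono (pullback.fst c.p i) := Over.mono_of_mono_left _
  have key : ∀ {T : Over S} (a b : T ⟶ U), Rel s t a b → ∀ x, x ≫ c.g = a →
      ∃ y, y ≫ c.g = b ∧ x ≫ c.p = y ≫ c.p := fun a b h x hx => by
    obtain ⟨y, hy⟩ := (c.stable a b h).1 ⟨x, hx⟩
    exact ⟨y, hy, (c.ker x y).2 (by rwa [hx, hy])⟩
  refine ⟨{ W := pullback c.p i, g := pullback.fst c.p i ≫ c.g,
            openImmersion := by rw [Over.comp_left]; infer_instance
            stable := ?_, V := V', p := pullback.snd c.p i,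
            flat := MorphismProperty.of_isPullback hsq c.flat,
            surj := MorphismProperty.of_isPullback hsq c.surj,
            lfp := MorphismProperty.of_isPullback hsq c.lfp,
            ker := ?_ }, rfl, ?_⟩
  · intro T a b h
    have hiff : ∀ (a : T ⟶ U), (∃ z, z ≫ pullback.fst c.p i ≫ c.g = a) ↔
        ∃ x v, x ≫ c.g = a ∧ x ≫ c.p = v ≫ i := fun a =>
      ⟨fun ⟨z, hz⟩ => ⟨z ≫ pullback.fst _ _, z ≫ pullback.snd _ _, by simpa using hz, by
          simp only [Category.assoc, pullback.condition]⟩,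
        fun ⟨x, v, hx, hv⟩ => ⟨pullback.lift x v hv, by rw [pullback.lift_fst_assoc, hx]⟩⟩
    rw [hiff, hiff]
    constructor
    · rintro ⟨x, v, hx, hv⟩
      obtain ⟨y, hy, hxy⟩ := key a b h x hx
      exact ⟨y, v, hy, hxy ▸ hv⟩
    · rintro ⟨y, v, hy, hv⟩
      obtain ⟨x, hx⟩ := (c.stable a b h).2 ⟨y, hy⟩
      exact ⟨x, v, hx, ((c.ker x y).2 (by rwa [hx, hy])).trans hv⟩
  · intro T a b
    rw [← cancel_mono i, Category.assoc, Category.assoc, ← pullback.condition, ← Category.assoc,
      ← Category.assoc, c.ker]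
    simp only [Category.assoc]
  · show Set.range ((pullback.fst c.p i).left ≫ c.g.left) = _
    rw [Scheme.Hom.comp_base, TopCat.coe_comp, Set.range_comp]
    refine congrArg (c.g.left '' ·) ?_
    have h := Scheme.Pullback.range_fst c.p.left i.left
    rw [← h]
    show Set.range ((Over.forget S).map (pullback.fst c.p i)) = _
    rw [← hsq.isoPullback_hom_fst, Scheme.Hom.comp_base, TopCat.coe_comp, Set.range_comp,
      Set.range_eq_univ.mpr hsq.isoPullback.hom.surjective, Set.image_univ]
    rfl

end Groth.Agent.GrpQuot19
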