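import Groth.Agent.GrpQuot19.Descent
import Groth.Agent.GrpdLib.GrpOver

/-!
# The coset relation of a subgroup
-/

set_option autoImplicit false
set_option linter.style.haveILetI false
set_option backward.isDefEq.respectTransparency false
set_option backward.isDefEq.respectTransparency.types false

universe u

open CategoryTheory CategoryTheory.Limits AlgebraicGeometry MonoidalCategory CartesianMonoidalCategory
open MonObj GrpObj

noncomputable section

namespace Groth.Agent.GrpQuot19.Coset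

variable {S : Scheme.{u}} {G F : Over S} [GrpObj G]

/-- `(g, f) ↦ g * i f`. -/
abbrev relT (i : F ⟶ G) : G ⊗ F ⟶ G := (G ◁ i) ≫ μ[G]

variable (i : F ⟶ G)

lemma comp_relT {T : Over S} (r : T ⟶ G ⊗ F) :
    r ≫ relT i = (r ≫ fst G F) * (r ≫ snd G F ≫ i) := by
  have ht : relT i = fst G F * (snd G F ≫ i) := by
    rw [Hom.mul_def]
    refine congrArg (· ≫ μ[G]) (CartesianMonoidalCategory.hom_ext _ _ ?_ ?_) <;> simp
  rw [ht, MonObj.comp_mul]

lemma rel_iff {T : Over S} (a b : T ⟶ G) :
    Rel (fst G F) (relT i) a b ↔ ∃ z : T ⟶ F, z ≫ i = b⁻¹ * a :=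
  ⟨fun ⟨r, h1, h2⟩ => ⟨r ≫ snd G F, by rw [← h1, comp_relT, h2, inv_mul_cancel_left, Category.assoc]⟩,
    fun ⟨z, hz⟩ => ⟨lift b z, by rw [comp_relT, lift_fst, lift_snd_assoc, hz, mul_inv_cancel_left],
      lift_fst _ _⟩⟩

/-- The coset relation is invariant under left translation. -/
lemma rel_mul_left {T : Over S} (c a b : T ⟶ G) :
    Rel (fst G F) (relT i) (c * a) (c * b) ↔ Rel (fst G F) (relT i) a b := by
  rw [rel_iff, rel_iff, _root_.mul_inv_rev, _root_.mul_assoc, inv_mul_cancel_left]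

variable [GrpObj F] [IsMonHom i]

lemma isEqvRel [Mono i] : _root_.AlgSp.IsEqvRel (fst G F) (relT i) := by
  refine ⟨fun T r r' h1 h2 => ?_, fun T => ⟨fun a => (rel_iff i a a).2 ⟨1, ?_⟩, fun {a b} h => ?_,
    fun {a b c} h h' => ?_⟩⟩
  · refine CartesianMonoidalCategory.hom_ext _ _ h2 ?_
    rw [comp_relT, comp_relT, h2] at h1
    rw [← cancel_mono i]
    simpa [Category.assoc] using mul_left_cancel h1
  · rw [MonObj.one_comp, inv_mul_cancel]
  · obtain ⟨z, hz⟩ := (rel_iff i a b).1 h
    exact (rel_iff i b a).2 ⟨z⁻¹, by rw [GrpObj.inv_comp, hz, _root_.mul_inv_rev, _root_.inv_inv]⟩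
  · obtain ⟨z, hz⟩ := (rel_iff i a b).1 h
    obtain ⟨z', hz'⟩ := (rel_iff i b c).1 h'
    exact (rel_iff i a c).2 ⟨z' * z, by rw [MonObj.mul_comp, hz, hz']; group⟩

omit [GrpObj F] [IsMonHom i] in
/-- The graph of the coset relation. -/
lemma isClosedImmersion_graph [IsClosedImmersion i.left] :
    IsClosedImmersion (lift (relT i) (fst G F)).left := by
  let Φ : G ⊗ G ⟶ G ⊗ G := lift μ[G] (fst G G)
  have hΦ : IsIso Φ := by
    refine ⟨lift (snd G G) ((snd G G)⁻¹ * fst G G), ?_, ?_⟩
    · refine CartesianMonoidalCategory.hom_ext _ _ ?_ ?_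
      · simp [Φ]
      · rw [Category.assoc, lift_snd, MonObj.comp_mul, GrpObj.comp_inv]
        simp only [Φ, lift_fst, lift_snd, Category.id_comp]
        rw [show μ[G] = fst G G * snd G G by rw [Hom.mul_def]; simp, inv_mul_cancel_left]
    · refine CartesianMonoidalCategory.hom_ext _ _ ?_ ?_
      · simp only [Φ, Category.assoc, lift_fst, Category.id_comp]
        rw [show μ[G] = fst G G * snd G G by rw [Hom.mul_def]; simp, MonObj.comp_mul, lift_fst, lift_snd,
          mul_inv_cancel_left]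
      · simp [Φ]
  haveI := GrpScheme.Basic.isIso_left Φ
  haveI : IsClosedImmersion (G ◁ i).left := by
    have h : G ◁ i = (β_ G F).hom ≫ (i ▷ G) ≫ (β_ G G).hom := by
      refine CartesianMonoidalCategory.hom_ext _ _ ?_ ?_ <;> simp
    haveI : IsClosedImmersion (i ▷ G).left :=
      GrpScheme.Basic.whiskerRight_mem @IsClosedImmersion i G ‹_›
    haveI := GrpScheme.Basic.isIso_left (β_ G F).hom
    haveI := GrpScheme.Basic.isIso_left (β_ G G).hom
    rw [h, Over.comp_left, Over.comp_left]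
    infer_instance
  have h : lift (relT i) (fst G F) = (G ◁ i) ≫ Φ := by
    refine CartesianMonoidalCategory.hom_ext _ _ ?_ ?_ <;> simp [Φ, relT]
  rw [h, Over.comp_left]
  infer_instance

omit [GrpObj F] [IsMonHom i] in
lemma quasiCompact_graph [IsClosedImmersion i.left] : QuasiCompact (prod.lift (relT i) (fst G F)).left := by
  let e : G ⨯ G ≅ G ⊗ G := ⟨lift prod.fst prod.snd, prod.lift (fst G G) (snd G G),
    by ext <;> simp, by ext <;> simp⟩
  have he : prod.lift (relT i) (fst G F) = lift (relT i) (fst G F) ≫ e.inv := by ext <;> simp [e]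
  haveI : IsIso e.inv.left := ((Over.forget S).mapIso e).isIso_inv
  haveI := isClosedImmersion_graph i
  rw [he, Over.comp_left]
  infer_instance

/-- The twisted projection by a translation. -/
abbrev twist {T : Over S} (c : T ⟶ G) : G ⊗ T ⟶ G := (snd G T ≫ c)⁻¹ * fst G T

omit [GrpObj F] [IsMonHom i] in
lemma isIso_lift_twist {T : Over S} (c : T ⟶ G) : IsIso (lift (twist c) (snd G T)) := by
  refine ⟨lift ((snd G T ≫ c) * fst G T) (snd G T), ?_, ?_⟩
  · refine CartesianMonoidalCategory.hom_ext _ _ ?_ ?_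
    · rw [Category.assoc, lift_fst, MonObj.comp_mul, lift_snd_assoc, lift_fst, Category.id_comp, mul_inv_cancel_left]
    · simp
  · refine CartesianMonoidalCategory.hom_ext _ _ ?_ ?_
    · rw [Category.assoc, lift_fst, MonObj.comp_mul, GrpObj.comp_inv, lift_snd_assoc, lift_fst, Category.id_comp,
        inv_mul_cancel_left]
    · simp

omit [GrpObj F] [IsMonHom i] in
lemma rel_twist {T : Over S} (c : T ⟶ G) {T₀ : Over S} (a b : T₀ ⟶ G ⊗ T) :
    Rel (fst G F ▷ T) (relT i ▷ T) a b ↔
      Rel (fst G F) (relT i) (a ≫ twist c) (b ≫ twist c) ∧ a ≫ snd G T = b ≫ snd G T := by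
  rw [rel_whiskerRight]
  refine and_congr_left fun h => ?_
  simp only [twist, MonObj.comp_mul, GrpObj.comp_inv, reassoc_of% h]
  rw [rel_mul_left]

end Groth.Agent.GrpQuot19.Coset
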