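import Groth.Agent.GrpQuot19.Chart
import Groth.Agent.GrpScheme.Basic
import Mathlib.AlgebraicGeometry.QuasiAffine
import Mathlib.AlgebraicGeometry.Morphisms.UniversallyOpen

/-!
# Descent of charts along an affine fppf extension of the base
-/

set_option autoImplicit false
set_option linter.style.haveILetI false
set_option backward.isDefEq.respectTransparency false
set_option backward.isDefEq.respectTransparency.types false

universe u

open CategoryTheory CategoryTheory.Limits AlgebraicGeometry MonoidalCategory CartesianMonoidalCategory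
open TopologicalSpace (Opens NoetherianSpace)

namespace Groth.Agent.GrpQuot19

open _root_.AlgSp (yon RepWith IsEqvRel Space IsAlgSpace Points repWith_yon_map_iff)
open Groth.Agent.AlgSp (yπ isPullback_yπ isLocallySurjective_yπ isColimit_of_isPullback
  isLocallySurjective_of_fppf_lift hom_ext_yon)

variable {S : Scheme.{u}} {R U : Over S} {s t : R ⟶ U}

lemma range_whiskerRight {A B : Over S} (f : A ⟶ B) (T : Over S) :
    Set.range (f ▷ T).left = (fst B T).left ⁻¹' Set.range f.left := by
  have hsq := (GrpScheme.Basic.isPullback_whiskerRight (R := T) f).map (Over.forget S)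
  show Set.range ((Over.forget S).map (f ▷ T)) = _
  rw [← hsq.isoPullback_hom_fst, Scheme.Hom.comp_base, TopCat.coe_comp, Set.range_comp,
    Set.range_eq_univ.mpr hsq.isoPullback.hom.surjective, Set.image_univ]
  exact Scheme.Pullback.range_fst _ _

/-- Related points of the base change. -/
lemma rel_whiskerRight (T : Over S) {T₀ : Over S} (a b : T₀ ⟶ U ⊗ T) :
    Rel (s ▷ T) (t ▷ T) a b ↔ Rel s t (a ≫ fst U T) (b ≫ fst U T) ∧ a ≫ snd U T = b ≫ snd U T := by
  constructor
  · rintro ⟨r, rfl, rfl⟩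
    exact ⟨⟨r ≫ fst R T, by simp, by simp⟩, by simp⟩
  · rintro ⟨⟨r, h1, h2⟩, h⟩
    exact ⟨lift r (a ≫ snd U T), CartesianMonoidalCategory.hom_ext _ _ (by simp [h1]) (by simp),
      CartesianMonoidalCategory.hom_ext _ _ (by simp [h2]) (by simp [h])⟩

/-- Pull a chart back along a twisted projection. -/
theorem Chart.exists_comap (c : Chart s t) (T : Over S) (τ : U ⊗ T ⟶ U) [IsIso (lift τ (snd U T))]
    (hτ : ∀ {T₀ : Over S} (a b : T₀ ⟶ U ⊗ T),
      Rel (s ▷ T) (t ▷ T) a b ↔ Rel s t (a ≫ τ) (b ≫ τ) ∧ a ≫ snd U T = b ≫ snd U T) :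
    ∃ c' : Chart (s ▷ T) (t ▷ T), c'.V = c.V ⊗ T ∧ Set.range c'.g.left = τ.left ⁻¹' Set.range c.g.left := by
  haveI := c.openImmersion
  let e := lift τ (snd U T)
  haveI : IsIso e.left := GrpScheme.Basic.isIso_left e
  haveI : IsIso (inv e).left := GrpScheme.Basic.isIso_left (inv e)
  let g' : c.W ⊗ T ⟶ U ⊗ T := (c.g ▷ T) ≫ inv e
  have he1 : inv e ≫ τ = fst U T := by rw [IsIso.inv_comp_eq]; simp [e]
  have he2 : inv e ≫ snd U T = snd U T := by rw [IsIso.inv_comp_eq]; simp [e]
  have hg1 : g' ≫ τ = fst c.W T ≫ c.g := by simp [g', he1]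
  have hg2 : g' ≫ snd U T = snd c.W T := by simp [g', he2]
  haveI : IsOpenImmersion (c.g ▷ T).left := GrpScheme.Basic.whiskerRight_mem @IsOpenImmersion c.g T c.openImmersion
  have hlift : ∀ {T₀ : Over S} (a : T₀ ⟶ U ⊗ T), (∃ x, x ≫ g' = a) ↔ ∃ y, y ≫ c.g = a ≫ τ := by
    intro T₀ a
    constructor
    · rintro ⟨x, rfl⟩
      exact ⟨x ≫ fst _ _, by rw [Category.assoc, Category.assoc, hg1]⟩
    · rintro ⟨y, hy⟩
      refine ⟨lift y (a ≫ snd _ _), ?_⟩
      rw [← cancel_mono e]
      refine CartesianMonoidalCategory.hom_ext _ _ ?_ ?_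
      · simp only [Category.assoc, e, lift_fst, hg1, lift_fst_assoc, hy]
      · simp only [Category.assoc, e, lift_snd, hg2]
  refine ⟨{ W := c.W ⊗ T, g := g',
            openImmersion := by rw [Over.comp_left]; infer_instance,
            stable := fun a b h => by
              rw [hlift, hlift]
              exact c.stable _ _ ((hτ a b).1 h).1,
            V := c.V ⊗ T, p := c.p ▷ T,
            flat := GrpScheme.Basic.whiskerRight_mem @Flat c.p T c.flat,
            surj := GrpScheme.Basic.whiskerRight_mem @Surjective c.p T c.surj,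
            lfp := GrpScheme.Basic.whiskerRight_mem @LocallyOfFinitePresentation c.p T c.lfp,
            ker := fun a b => ?_ }, rfl, ?_⟩
  · rw [hτ]
    simp only [Category.assoc, hg1, hg2]
    constructor
    · intro h
      have h1 := h =≫ fst _ _
      have h2 := h =≫ snd _ _
      simp only [Category.assoc, whiskerRight_fst, whiskerRight_snd] at h1 h2
      refine ⟨?_, h2⟩
      have := (c.ker (a ≫ fst _ _) (b ≫ fst _ _)).1 (by simpa using h1)
      simpa using this
    · rintro ⟨h1, h2⟩
      have := (c.ker (a ≫ fst _ _) (b ≫ fst _ _)).2 (by simpa using h1)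
      exact CartesianMonoidalCategory.hom_ext _ _ (by simpa using this) (by simpa using h2)
  · show Set.range ((c.g ▷ T).left ≫ (inv e).left) = _
    have h1 : ∀ u, e.left ((inv e).left u) = u := fun u => by
      rw [← Scheme.Hom.comp_apply, ← Over.comp_left, IsIso.inv_hom_id]; rfl
    have h2 : ∀ u, (inv e).left (e.left u) = u := fun u => by
      rw [← Scheme.Hom.comp_apply, ← Over.comp_left, IsIso.hom_inv_id]; rfl
    have h3 : ∀ u, τ.left u = (fst U T).left (e.left u) := fun u => by
      rw [← Scheme.Hom.comp_apply, ← Over.comp_left, lift_fst]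
    ext u
    rw [Set.mem_preimage, h3, ← Set.mem_preimage (f := (fst U T).left), ← range_whiskerRight]
    constructor
    · rintro ⟨w, rfl⟩
      exact ⟨w, by rw [Scheme.Hom.comp_apply, h1]⟩
    · rintro ⟨w, hw⟩
      exact ⟨w, by rw [Scheme.Hom.comp_apply, hw, h2]⟩

/-- A saturated open whose base change lies in a chart with affine quotient has a quotient scheme. -/
theorem exists_chart_of_baseChange (heq : IsEqvRel s t) [Flat s.left] [LocallyOfFinitePresentation s.left]
    [IsAffine S] (T : Over S) [IsAffine T.left] [Flat T.hom] [Surjective T.hom] [LocallyOfFinitePresentation T.hom]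
    (c' : Chart (s ▷ T) (t ▷ T)) [IsAffine c'.V.left] [NoetherianSpace c'.V.left]
    (O : U.left.Opens)
    (hO : ∀ {T₀ : Over S} (a b : T₀ ⟶ U), Rel s t a b → ((∀ z, a.left z ∈ O) ↔ ∀ z, b.left z ∈ O))
    (hOc : (fst U T).left ⁻¹' (O : Set U.left) ⊆ Set.range c'.g.left) :
    ∃ c : Chart s t, Set.range c.g.left = O := by
  -- the open
  let W0 : Over S := Over.mk (O.ι ≫ U.hom)
  let g0 : W0 ⟶ U := Over.homMk O.ι rfl
  haveI hg0 : IsOpenImmersion g0.left := inferInstanceAs (IsOpenImmersion O.ι)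
  haveI : Mono g0 := Over.mono_of_mono_left g0
  have hr0 : Set.range g0.left = O := Scheme.Opens.range_ι O
  have hst : ∀ {T₀ : Over S} (a b : T₀ ⟶ U), Rel s t a b → ((∃ x, x ≫ g0 = a) ↔ ∃ y, y ≫ g0 = b) := by
    intro T₀ a b h
    have : ∀ a : T₀ ⟶ U, (∃ x, x ≫ g0 = a) ↔ ∀ z, a.left z ∈ O := fun a =>
      ⟨fun h z => by have := mem_range_of_exists_lift h z; rwa [hr0] at this,
        fun h => exists_lift_open g0 a fun z => by rw [hr0]; exact h z⟩
    rw [this, this]
    exact hO a b h
  -- the base change of the open maps to a quasi-affine scheme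
  haveI := c'.openImmersion; haveI := c'.flat; haveI := c'.lfp
  haveI : IsOpenImmersion (g0 ▷ T).left := GrpScheme.Basic.whiskerRight_mem @IsOpenImmersion g0 T hg0
  obtain ⟨m, hm⟩ := exists_lift_open c'.g (g0 ▷ T) fun z => hOc (by
    rw [← hr0, ← range_whiskerRight]; exact ⟨z, rfl⟩)
  haveI : IsOpenImmersion m.left := by
    haveI : IsOpenImmersion (m.left ≫ c'.g.left) := by rw [← Over.comp_left, hm]; infer_instance
    exact IsOpenImmersion.of_comp m.left c'.g.left
  let q₂ : W0 ⊗ T ⟶ c'.V := m ≫ c'.p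
  haveI : Flat q₂.left := by rw [Over.comp_left]; infer_instance
  haveI : LocallyOfFinitePresentation q₂.left := by rw [Over.comp_left]; infer_instance
  let O₁ : c'.V.left.Opens := ⟨Set.range q₂.left, q₂.left.isOpenMap.isOpen_range⟩
  let V₂ : Over S := Over.mk (O₁.ι ≫ c'.V.hom)
  let i : V₂ ⟶ c'.V := Over.homMk O₁.ι rfl
  haveI : IsOpenImmersion i.left := inferInstanceAs (IsOpenImmersion O₁.ι)
  haveI : Mono i := Over.mono_of_mono_left i
  have hri : Set.range i.left = Set.range q₂.left := Scheme.Opens.range_ι O₁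
  obtain ⟨q, hq⟩ := exists_lift_open i q₂ fun z => by rw [hri]; exact ⟨z, rfl⟩
  have hql : q.left ≫ i.left = q₂.left := by rw [← Over.comp_left, hq]
  haveI : Flat q.left :=
    MorphismProperty.of_postcomp @Flat (W' := @IsOpenImmersion) q.left i.left inferInstance (hql ▸ inferInstance)
  haveI : LocallyOfFinitePresentation q.left := MorphismProperty.of_postcomp @LocallyOfFinitePresentation
    (W' := @IsOpenImmersion) q.left i.left inferInstance (hql ▸ inferInstance)
  haveI : Surjective q.left := ⟨fun v => by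
    obtain ⟨w, hw⟩ : i.left v ∈ Set.range q₂.left := hri ▸ ⟨v, rfl⟩
    exact ⟨w, i.left.isOpenEmbedding.injective (by rw [← Scheme.Hom.comp_apply, hql, hw])⟩⟩
  have hqker : ∀ {T₀ : Over S} (a b : T₀ ⟶ W0 ⊗ T), a ≫ q = b ≫ q ↔
      Rel s t (a ≫ fst W0 T ≫ g0) (b ≫ fst W0 T ≫ g0) ∧ a ≫ snd W0 T = b ≫ snd W0 T := by
    intro T₀ a b
    rw [← cancel_mono i, Category.assoc, Category.assoc, hq, show a ≫ q₂ = (a ≫ m) ≫ c'.p by simp [q₂],
      show b ≫ q₂ = (b ≫ m) ≫ c'.p by simp [q₂], c'.ker, Category.assoc, Category.assoc, hm, rel_whiskerRight]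
    simp only [Category.assoc, whiskerRight_fst, whiskerRight_snd]
  haveI : V₂.left.IsQuasiAffine := by
    haveI : CompactSpace V₂.left := isCompact_iff_compactSpace.mp (NoetherianSpace.isCompact (O₁ : Set c'.V.left))
    exact Scheme.IsQuasiAffine.of_isImmersion i.left
  -- the restricted relation
  let R0 : Over S := pullback s g0
  let r0 : R0 ⟶ R := pullback.fst s g0
  let s0 : R0 ⟶ W0 := pullback.snd s g0
  obtain ⟨t0, ht0⟩ := (hst (r0 ≫ t) (r0 ≫ s) ⟨r0, rfl, rfl⟩).2 ⟨s0, pullback.condition.symm⟩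
  have hrel0 : ∀ {T₀ : Over S} (a b : T₀ ⟶ W0), Rel s0 t0 a b ↔ Rel s t (a ≫ g0) (b ≫ g0) := by
    intro T₀ a b
    constructor
    · rintro ⟨r, rfl, rfl⟩
      exact ⟨r ≫ r0, by simp [ht0], by simp [r0, s0, pullback.condition]⟩
    · rintro ⟨r, h1, h2⟩
      refine ⟨pullback.lift r b h2, ?_, pullback.lift_snd _ _ _⟩
      rw [← cancel_mono g0, Category.assoc, ht0, pullback.lift_fst_assoc, h1]
  have heq0 : IsEqvRel s0 t0 := by
    refine ⟨fun T₀ r r' h1 h2 => pullback.hom_ext ?_ h2, fun T₀ => ?_⟩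
    · refine heq.injective T₀ _ _ ?_ ?_
      · have := congrArg (· ≫ g0) h1
        simpa only [Category.assoc, ht0] using this
      · have := congrArg (· ≫ g0) h2
        simpa only [Category.assoc, s0, ← pullback.condition] using this
    · exact ⟨fun a => (hrel0 a a).2 ((heq.equivalence T₀).refl _),
        fun {a b} h => (hrel0 b a).2 ((heq.equivalence T₀).symm ((hrel0 a b).1 h)),
        fun {a b c} h h' => (hrel0 a c).2 ((heq.equivalence T₀).trans ((hrel0 a b).1 h) ((hrel0 b c).1 h'))⟩
  have hsq0 := (IsPullback.of_hasPullback s g0).map (Over.forget S)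
  haveI : Flat s0.left := MorphismProperty.of_isPullback hsq0 ‹Flat s.left›
  haveI : LocallyOfFinitePresentation s0.left := MorphismProperty.of_isPullback hsq0 ‹LocallyOfFinitePresentation s.left›
  obtain ⟨-, hcov, hcovs⟩ := Groth.Agent.AlgSpB.Art.cover_yπ heq0
  have sq0 := isPullback_yπ s0 t0 heq0
  haveI := isLocallySurjective_yπ s0 t0
  let π0 := yπ s0 t0
  obtain ⟨hcol0⟩ := isColimit_of_isPullback π0 sq0
  obtain ⟨a, ha⟩ : ∃ a, π0 ≫ a = (yon S).map (toUnit W0) :=
    ⟨_, (Cofork.IsColimit.desc' hcol0 ((yon S).map (toUnit W0)) (by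
      rw [← Functor.map_comp, ← Functor.map_comp, toUnit_unique (t0 ≫ toUnit W0) (s0 ≫ toUnit W0)])).2⟩
  haveI : Flat (toUnit T).left := ‹Flat T.hom›
  haveI : Surjective (toUnit T).left := ‹Surjective T.hom›
  haveI : LocallyOfFinitePresentation (toUnit T).left := ‹LocallyOfFinitePresentation T.hom›
  haveI : IsAffine (𝟙_ (Over S)).left := ‹IsAffine S›
  have hw0 : ((yon S).map (fst W0 T) ≫ π0) ≫ a = (yon S).map (snd W0 T) ≫ (yon S).map (toUnit T) := by
    rw [Category.assoc, ha, ← Functor.map_comp, ← Functor.map_comp,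
      toUnit_unique (fst W0 T ≫ toUnit W0) (snd W0 T ≫ toUnit T)]
  let qP : (yon S).obj (W0 ⊗ T) ⟶ pullback a ((yon S).map (toUnit T)) :=
    pullback.lift ((yon S).map (fst W0 T) ≫ π0) ((yon S).map (snd W0 T)) hw0
  haveI : Sheaf.IsLocallySurjective qP := isLocallySurjective_of_fppf_lift qP fun T₀ x₀ => by
    have hfl := Groth.Agent.AlgSp.repWith_mono (P := @Flat ⊓ @LocallyOfFinitePresentation) (Q := @Flat) (fun _ h => h.1) hcov
    have hlf := Groth.Agent.AlgSp.repWith_mono (P := @Flat ⊓ @LocallyOfFinitePresentation) (Q := @LocallyOfFinitePresentation) (fun _ h => h.2) hcov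
    let x := x₀ ≫ pullback.fst _ _
    obtain ⟨l, hl⟩ := (yon S).map_surjective (hfl.1.fst x)
    obtain ⟨y, hy⟩ := (yon S).map_surjective (x₀ ≫ pullback.snd _ _)
    refine ⟨hfl.1.pullback x, hfl.1.snd x, (yon S).map (lift l (hfl.1.snd x ≫ y)),
      hfl.2 _ _ _ (hfl.1.isPullback x), hcovs.2 _ _ _ (hfl.1.isPullback x),
      hlf.2 _ _ _ (hfl.1.isPullback x), ?_⟩
    refine pullback.hom_ext ?_ ?_
    · rw [Category.assoc, Category.assoc, pullback.lift_fst, ← Functor.map_comp_assoc, lift_fst, hl,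
        hfl.1.w]
    · rw [Category.assoc, Category.assoc, pullback.lift_snd, ← Functor.map_comp, lift_snd, Functor.map_comp, hy]
  haveI : Sheaf.IsLocallySurjective ((yon S).map q) :=
    Groth.Agent.AlgSp.isLocallySurjective_of_repWith _ ((repWith_yon_map_iff _ _).2 ‹Flat q.left›)
      ((repWith_yon_map_iff _ _).2 ‹LocallyOfFinitePresentation q.left›) ((repWith_yon_map_iff _ _).2 ‹Surjective q.left›)
  have hqP : ∀ {T₀ : Over S} (x y : T₀ ⟶ W0 ⊗ T), (yon S).map x ≫ qP = (yon S).map y ≫ qP ↔ x ≫ q = y ≫ q := by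
    intro T₀ x y
    rw [hqker]
    constructor
    · intro h
      have h1 := h =≫ pullback.fst _ _
      have h2 := h =≫ pullback.snd _ _
      simp only [qP, Category.assoc, pullback.lift_fst, pullback.lift_snd] at h1 h2
      rw [← Functor.map_comp_assoc, ← Functor.map_comp_assoc] at h1
      rw [← Functor.map_comp, ← Functor.map_comp] at h2
      obtain ⟨r, e1, e2⟩ := sq0.exists_lift _ _ h1
      obtain ⟨r, rfl⟩ := (yon S).map_surjective r
      rw [← Functor.map_comp] at e1 e2
      have := (hrel0 _ _).1 ⟨r, (yon S).map_injective e1, (yon S).map_injective e2⟩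
      exact ⟨by simpa only [Category.assoc] using this, (yon S).map_injective h2⟩
    · rintro ⟨h1, h2⟩
      obtain ⟨r, e1, e2⟩ := (hrel0 (x ≫ fst _ _) (y ≫ fst _ _)).2 (by simpa only [Category.assoc] using h1)
      refine pullback.hom_ext ?_ ?_
      · simp only [qP, Category.assoc, pullback.lift_fst]
        rw [← Functor.map_comp_assoc, ← Functor.map_comp_assoc, ← e1, ← e2, Functor.map_comp,
          Functor.map_comp, Category.assoc, Category.assoc, sq0.w]
      · simp only [qP, Category.assoc, pullback.lift_snd]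
        rw [← Functor.map_comp, ← Functor.map_comp, h2]
  obtain ⟨hcol2⟩ := isColimit_of_isPullback _ ((IsPullback.of_hasPullback q q).map (yon S))
  obtain ⟨hcolP⟩ := isColimit_of_isPullback qP (IsPullback.of_hasPullback qP qP)
  obtain ⟨j, hj⟩ : ∃ j, (yon S).map q ≫ j = qP :=
    ⟨_, (Cofork.IsColimit.desc' hcol2 qP ((hqP _ _).2 pullback.condition)).2⟩
  obtain ⟨j', hj'⟩ : ∃ j', qP ≫ j' = (yon S).map q :=
    ⟨_, (Cofork.IsColimit.desc' hcolP ((yon S).map q) (hom_ext_yon fun T₀ z => by
      obtain ⟨x, hx⟩ := (yon S).map_surjective (z ≫ pullback.fst qP qP)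
      obtain ⟨y, hy⟩ := (yon S).map_surjective (z ≫ pullback.snd qP qP)
      have h := (hqP x y).1 (by
        rw [hx, hy]
        exact (Category.assoc _ _ _).trans ((congrArg (z ≫ ·) pullback.condition).trans (Category.assoc _ _ _).symm))
      refine (Category.assoc _ _ _).symm.trans (Eq.trans ?_ (Category.assoc _ _ _))
      refine (congrArg (· ≫ (yon S).map q) hx.symm).trans (Eq.trans ?_ (congrArg (· ≫ (yon S).map q) hy))
      exact ((yon S).map_comp x q).symm.trans ((congrArg (yon S).map h).trans ((yon S).map_comp y q)))).2⟩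
  haveI : Epi ((yon S).map q) := (Sheaf.isLocallySurjective_iff_epi _).1 inferInstance
  haveI : Epi qP := (Sheaf.isLocallySurjective_iff_epi _).1 inferInstance
  haveI : IsIso j := ⟨j', by rw [← cancel_epi ((yon S).map q), ← Category.assoc, hj, hj', Category.comp_id],
    by rw [← cancel_epi qP, ← Category.assoc, hj', hj, Category.comp_id]⟩
  obtain ⟨w, hw⟩ := (yon S).map_surjective (j ≫ pullback.snd a ((yon S).map (toUnit T)))
  have hsqY : IsPullback (j ≫ pullback.fst a ((yon S).map (toUnit T))) ((yon S).map w) a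
      ((yon S).map (toUnit T)) :=
    IsPullback.of_iso_pullback ⟨by rw [hw, Category.assoc, Category.assoc, pullback.condition]⟩ (asIso j) rfl hw.symm
  obtain ⟨W₀, ⟨e⟩⟩ := Groth.Agent.AlgSp.exists_iso_of_fppf_quasiAffine (toUnit T) a _ w hsqY
  obtain ⟨p0, hp0⟩ := (yon S).map_surjective (π0 ≫ e.inv)
  refine ⟨{ W := W0, g := g0, openImmersion := hg0, stable := hst, V := W₀, p := p0,
            flat := ?_, surj := ?_, lfp := ?_, ker := fun x y => ?_ }, hr0⟩
  · refine (repWith_yon_map_iff @Flat p0).1 ?_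
    rw [hp0]
    exact (MorphismProperty.cancel_right_of_respectsIso (RepWith @Flat) _ _).2
      (Groth.Agent.AlgSp.repWith_mono (fun _ h => h.1) hcov)
  · refine (repWith_yon_map_iff @Surjective p0).1 ?_
    rw [hp0]
    exact (MorphismProperty.cancel_right_of_respectsIso (RepWith @Surjective) _ _).2 hcovs
  · refine (repWith_yon_map_iff @LocallyOfFinitePresentation p0).1 ?_
    rw [hp0]
    exact (MorphismProperty.cancel_right_of_respectsIso (RepWith @LocallyOfFinitePresentation) _ _).2
      (Groth.Agent.AlgSp.repWith_mono (fun _ h => h.2) hcov)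
  · rw [← hrel0]
    have key : x ≫ p0 = y ≫ p0 ↔ (yon S).map x ≫ π0 = (yon S).map y ≫ π0 := by
      rw [← (yon S).map_injective.eq_iff, Functor.map_comp, Functor.map_comp, hp0]
      exact ⟨fun h => (cancel_mono e.inv).1 ((Category.assoc _ _ _).trans (h.trans (Category.assoc _ _ _).symm)),
        fun h => (Category.assoc _ _ _).symm.trans ((congrArg (· ≫ e.inv) h).trans (Category.assoc _ _ _))⟩
    rw [key]
    constructor
    · intro h
      obtain ⟨r, e1, e2⟩ := sq0.exists_lift _ _ h
      obtain ⟨r, rfl⟩ := (yon S).map_surjective r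
      rw [← Functor.map_comp] at e1 e2
      exact ⟨r, (yon S).map_injective e1, (yon S).map_injective e2⟩
    · rintro ⟨r, rfl, rfl⟩
      rw [Functor.map_comp, Functor.map_comp, Category.assoc, Category.assoc, sq0.w]

end Groth.Agent.GrpQuot19
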